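import Cfsg.Agent.RankOneTorus.SUThree
import Cfsg.Agent.QdUnitary.Involve

/-!
In `SU₃(q)` the `p`-elements normalising a nontrivial `p`-subgroup lie in one radical; so `PSU₃(q)`, `q` odd,
does not involve `Qd(p)`.
-/

set_option autoImplicit false
set_option linter.style.haveILetI false
set_option linter.unusedSectionVars false

namespace CfsgLib.QdUnitary

open Matrix CfsgLib.Unitary CfsgLib.AutPSU CfsgLib.Forms CfsgLib.RankOneTorus

variable {F : Type*} [Field F] [Finite F] {q : ℕ} (hF : Nat.card F = q ^ 2)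

local notation "hf" => Cfsg.hermForm _ _
local notation "SU3" => Cfsg.SU 3 F q

include hF

theorem su_condition {p : ℕ} [Fact p.Prime] [CharP F p] :
    ∀ P : Subgroup SU3, P ≠ ⊥ → IsPGroup p P → ∃ W : Subgroup SU3, IsPGroup p W ∧
      ∀ g ∈ Subgroup.normalizer (P : Set SU3), (∃ j, g ^ p ^ j = 1) → g ∈ W := by
  classical
  obtain ⟨e, he0, hee⟩ := exists_isotropic hF (n := 3) (by norm_num)
  obtain ⟨f, H⟩ := exists_hyp hF he0 hee
  obtain ⟨c, hc0, hc⟩ := exists_skew hF
  have hfe : hf q f e = 1 := H.fe hF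
  set U := radical hF e H.ee
  have hU : IsPGroup p U := radical_pGroup hF H.ee
  -- the orbit of `f`
  have horbit : ∀ x, hf q x x = 0 → hf q x e = 1 → ∃ u ∈ U, suMat u *ᵥ f = x := by
    intro x hx hxe
    set b := x - hf q x f • e - hf q x e • f with hb
    have hbW : InW q e f b := inW_proj hF H x
    have hxd : x = f + b + hf q x f • e := by rw [hb, hxe, one_smul]; abel
    have hs : hf q x f + hf q x f ^ q + hf q b b = 0 := by
      have h1 := hx
      set s := hf q x f
      rw [hxd] at h1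
      simp only [herm_add_left, herm_smul_left, herm_add_right hF, herm_smul_right hF, H.ff, H.ee, H.ef, hfe,
        hbW.1, hbW.2, hf_swap_zero hF hbW.1, hf_swap_zero hF hbW.2] at h1
      linear_combination h1
    refine ⟨eich hF e b (hf q x f) H.ee hbW.1 hs, ⟨b, _, hbW.1, rfl⟩, ?_⟩
    rw [show suMat (eich hF e b (hf q x f) H.ee hbW.1 hs) = eichMat q e b (hf q x f) from rfl,
      eichMat_apply_f hF H hbW]
    exact hxd.symm
  -- the only isotropic eigenline of a nontrivial radical element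
  have honly : ∀ u ∈ U, u ≠ 1 → ∀ x, hf q x x = 0 → suMat u *ᵥ x = x → ∃ μ : F, x = μ • e := by
    intro u hu hu1 x hxx hux
    by_cases hxe : hf q x e = 0
    · obtain ⟨d, hd, b, Fr⟩ := exists_frame hF H
      obtain rfl : d = 1 := by omega
      have hxd : x = hf q x f • e + hf q x (b 0) • b 0 := by
        have := Fr.expand x
        rwa [Fin.sum_univ_one, hxe, zero_smul, add_zero] at this
      have hxb : hf q x (b 0) = 0 := by
        set s := hf q x f
        set t := hf q x (b 0)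
        rw [hxd] at hxx
        simp only [herm_add_left, herm_smul_left, herm_add_right hF, herm_smul_right hF, H.ee, (Fr.inW 0).1,
          hf_swap_zero hF (Fr.inW 0).1, Fr.on, if_pos] at hxx
        by_contra ht
        exact mul_ne_zero ht (pow_ne_zero q ht) (by linear_combination hxx)
      exact ⟨hf q x f, hxd.trans (by rw [hxb, zero_smul, add_zero])⟩
    · exfalso
      set l := hf q x e
      obtain ⟨u₀, hu₀, he₀⟩ := horbit (l⁻¹ • x)
        (by rw [herm_smul_left, herm_smul_right hF, hxx, mul_zero, mul_zero])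
        (by rw [herm_smul_left, inv_mul_cancel₀ hxe])
      have h1 : u₀⁻¹ * u * u₀ = 1 := by
        refine eq_one_of_fix hF H (suMat_mem_radical_fix hF H.ee (mul_mem (mul_mem (inv_mem hu₀) hu) hu₀)) ?_
        rw [suMat_mul, suMat_mul, ← Matrix.mulVec_mulVec, ← Matrix.mulVec_mulVec, he₀, Matrix.mulVec_smul, hux,
          ← he₀, su_inv_mulVec]
      exact hu1 (by
        calc u = u₀ * (u₀⁻¹ * u * u₀) * u₀⁻¹ := by group
          _ = 1 := by rw [h1, mul_one, mul_inv_cancel])
  -- a normaliser of a nontrivial subgroup of the radical fixes the point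
  have hfix : ∀ (P : Subgroup SU3), P ≤ U → P ≠ ⊥ → ∀ g ∈ Subgroup.normalizer (P : Set SU3),
      ∃ μ : F, suMat g *ᵥ e = μ • e := by
    intro P hPU hP g hg
    obtain ⟨u, hu, hu1⟩ := P.bot_or_exists_ne_one.resolve_left hP
    have hu' : g⁻¹ * u * g ∈ P := (Subgroup.mem_normalizer_iff'.1 hg (g⁻¹ * u)).2 (by
      rwa [mul_inv_cancel_left])
    refine honly u (hPU hu) hu1 _ ((su_preserves g e e).trans H.ee) ?_
    have h1 := suMat_mem_radical_fix hF H.ee (hPU hu')
    conv_rhs => rw [← h1]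
    rw [Matrix.mulVec_mulVec, Matrix.mulVec_mulVec, ← suMat_mul, ← suMat_mul, mul_assoc g⁻¹, mul_inv_cancel_left]
  -- a `p`-element fixing the point lies in the radical
  have hmem : ∀ g : SU3, (∃ μ : F, suMat g *ᵥ e = μ • e) → (∃ j, g ^ p ^ j = 1) → g ∈ U := by
    rintro g ⟨μ, hμ⟩ ⟨j, hj⟩
    have hpow : ∀ k : ℕ, suMat (g ^ k) *ᵥ e = μ ^ k • e := by
      intro k
      induction k with
      | zero => rw [pow_zero, pow_zero, suMat_one, Matrix.one_mulVec, one_smul]
      | succ k ih =>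
        rw [pow_succ', suMat_mul, ← Matrix.mulVec_mulVec, ih, Matrix.mulVec_smul, hμ, smul_smul, ← pow_succ]
    have h1 := hpow (p ^ j)
    rw [hj, suMat_one, Matrix.one_mulVec] at h1
    have hμ1 : μ = 1 := by
      have h2 : μ ^ p ^ j = 1 := smul_left_injective F he0 (by simpa using h1.symm)
      have h3 : (μ - 1) ^ p ^ j = 0 := by rw [sub_pow_char_pow, h2, one_pow, sub_self]
      exact sub_eq_zero.1 (pow_eq_zero_iff (pow_ne_zero j (Fact.out : p.Prime).ne_zero) |>.1 h3)
    rw [hμ1, one_smul] at hμ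
    set x := suMat g *ᵥ f
    obtain ⟨u, hu, hux⟩ := horbit x ((su_preserves _ f f).trans H.ff) (by
      show hf q (suMat g *ᵥ f) e = 1
      exact (congrArg (hf q (suMat g *ᵥ f)) hμ.symm).trans ((su_preserves _ f e).trans hfe))
    have h1 : u⁻¹ * g = 1 := eq_one_of_fix hF H
      (by
        rw [suMat_mul, ← Matrix.mulVec_mulVec, hμ]
        conv_lhs => rw [← suMat_mem_radical_fix hF H.ee hu]
        rw [su_inv_mulVec])
      (by
        rw [suMat_mul, ← Matrix.mulVec_mulVec]
        show suMat u⁻¹ *ᵥ x = f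
        rw [← hux, su_inv_mulVec])
    rw [inv_mul_eq_one] at h1
    exact h1 ▸ hu
  have hne : U ≠ ⊥ := fun hU => by
    have h1 := suTv_mem_radical hF H.ee hc
    rw [show radical hF e H.ee = ⊥ from hU, Subgroup.mem_bot] at h1
    have hT : suMat (suTv 3 e c H.ee hc hF) *ᵥ f = f + (c * hf q f e) • e := utv_mulVec e c f
    rw [h1, suMat_one, Matrix.one_mulVec, hfe, mul_one, left_eq_add, smul_eq_zero] at hT
    exact hT.elim hc0 he0
  -- the radical is a Sylow subgroup
  haveI : Finite SU3 := inferInstance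
  obtain ⟨S, hUS⟩ := hU.exists_le_sylow
  have hS : (S : Subgroup SU3) = U := by
    by_contra hSU
    haveI : Group.IsNilpotent (S : Subgroup SU3) := S.2.isNilpotent
    have hlt : U.subgroupOf (S : Subgroup SU3) < ⊤ := lt_top_iff_ne_top.2 fun h =>
      hSU (le_antisymm (fun g hg => Subgroup.mem_subgroupOf.1 (h.ge (Subgroup.mem_top (⟨g, hg⟩ : (S : Subgroup SU3))))) hUS)
    have h2 := (Group.normalizerCondition_of_isNilpotent (G := (S : Subgroup SU3))) _ hlt
    obtain ⟨⟨g, hgS⟩, hgn, hgU⟩ := SetLike.exists_of_lt h2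
    refine hgU (Subgroup.mem_subgroupOf.2 (hmem g (hfix U le_rfl hne g ?_) ?_))
    · refine Subgroup.mem_normalizer_iff.2 fun u => ⟨fun hu => ?_, fun hu => ?_⟩
      · exact (Subgroup.mem_normalizer_iff.1 hgn ⟨u, hUS hu⟩).1 hu
      · have hu' : u ∈ (S : Subgroup SU3) := by
          have := mul_mem (mul_mem (inv_mem hgS) (hUS hu)) hgS
          simpa [mul_assoc] using this
        exact (Subgroup.mem_normalizer_iff.1 hgn ⟨u, hu'⟩).2 hu
    · obtain ⟨j, hj⟩ := S.2 ⟨g, hgS⟩
      exact ⟨j, congrArg Subtype.val hj⟩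
  intro P hP hPp
  obtain ⟨S', hS'⟩ := hPp.exists_le_sylow
  obtain ⟨t, ht⟩ := MulAction.exists_smul_eq SU3 S' S
  refine ⟨(S' : Subgroup SU3), S'.2, fun g hg ⟨j, hj⟩ => ?_⟩
  have hconj : ∀ y, y ∈ (S' : Subgroup SU3) ↔ t * y * t⁻¹ ∈ U := fun y => by
    rw [← hS, ← ht, Sylow.coe_subgroup_smul, Subgroup.mem_pointwise_smul_iff_inv_smul_mem]
    have e : (MulAut.conj t)⁻¹ • (t * y * t⁻¹) = y := by
      rw [← map_inv, MulAut.smul_def, MulAut.conj_apply]; group
    rw [e]
  rw [hconj]
  refine hmem _ (hfix (P.map (MulAut.conj t).toMonoidHom) ?_ ?_ _ ?_) ⟨j, ?_⟩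
  · rintro _ ⟨y, hy, rfl⟩
    exact (hconj y).1 (hS' hy)
  · exact fun h => hP ((Subgroup.map_eq_bot_iff_of_injective _ (MulAut.conj t).injective).1 h)
  · exact Subgroup.le_normalizer_map (MulAut.conj t).toMonoidHom (Subgroup.mem_map_of_mem _ hg)
  · rw [conj_pow, hj, mul_one, mul_inv_cancel]

end CfsgLib.QdUnitary
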